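import Groth.Agent.RGFlatLib.StrictExists
import Groth.Agent.RGFlatLib.Dominate
import Groth.Agent.ModPairLib.Colon
import Groth.Agent.CohAmpLib.Tools
import Groth.Agent.RpushLib.BCMap
import Groth.Agent.QCohLib.SerreCrit
import Groth.Agent.SerreGenLib.Main
import Groth.Agent.KFlatLib.AffinePull

/-!
# Strict transforms and affine direct images
-/

universe u
open CategoryTheory CategoryTheory.Limits TopologicalSpace Opposite AlgebraicGeometry QCohLib

namespace StrictPushLib

variable {X : Scheme.{u}}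

theorem isQCoh_strict {𝓔 : X.IdealSheafData} (hE : BlowUp.IsFiniteTypeIdeal 𝓔) (P : X.Modules)
    [Coh.IsQCoh P] {G : X.Modules} (π : P ⟶ G) [Epi π]
    (h : ∀ (V : X.affineOpens) (m : Γ(P, V.1)), π.app V.1 m = 0 ↔ BlowUp.KilledByPowerNear 𝓔 P V m) :
    Coh.IsQCoh G := by
  obtain ⟨G₀, π₀, hπ₀, h₀⟩ := RGFlatLib.exists_strictTransform_mod hE P
  have hz : ∀ {A B : X.Modules} (α : P ⟶ A) (β : P ⟶ B),
      (∀ (V : X.affineOpens) (m : Γ(P, V.1)), α.app V.1 m = 0 → β.app V.1 m = 0) →
      kernel.ι α ≫ β = 0 := by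
    intro A B α β hαβ
    apply Scheme.Modules.hom_ext
    intro W
    refine ConcreteCategory.hom_ext _ _ fun z => ?_
    refine TopCat.Presheaf.section_ext ((toAbF X).obj B : TopCat.Sheaf AddCommGrpCat _) W
      ((kernel.ι α ≫ β).app W z) 0 fun p hp => ?_
    obtain ⟨V, hV, hpV, hle⟩ := Opens.isBasis_iff_nbhd.mp X.isBasis_affineOpens hp
    have h2 : (kernel.ι α ≫ β).app V ((kernel α).presheaf.map (homOfLE hle).op z) = 0 :=
      hαβ ⟨V, hV⟩ _ (congr_arg
        (fun θ : kernel α ⟶ A => θ.app V ((kernel α).presheaf.map (homOfLE hle).op z))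
        (kernel.condition α))
    rw [app_map] at h2
    refine (TopCat.Presheaf.germ_res_apply B.presheaf (homOfLE hle) p hpV _).symm.trans ?_
    refine (congr_arg (B.presheaf.germ V p hpV) h2).trans ?_
    exact (map_zero (B.presheaf.germ V p hpV).hom).trans (map_zero (B.presheaf.germ W p hp).hom).symm
  have hG₀ : Coh.IsQCoh G₀ → Coh.IsQCoh G := fun _ => by
    let a := Abelian.epiDesc π π₀ (hz π π₀ fun V m hm => (h₀ V m).mpr ((h V m).mp hm))
    let b := Abelian.epiDesc π₀ π (hz π₀ π fun V m hm => (h V m).mpr ((h₀ V m).mp hm))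
    let e : G₀ ≅ G :=
      { hom := b, inv := a
        hom_inv_id := by rw [← cancel_epi π₀, Abelian.comp_epiDesc_assoc, Abelian.comp_epiDesc, Category.comp_id]
        inv_hom_id := by rw [← cancel_epi π, Abelian.comp_epiDesc_assoc, Abelian.comp_epiDesc, Category.comp_id] }
    exact QCohLib.isQCoh_of_iso e
  refine hG₀ ?_
  haveI : Coh.IsQCoh (kernel π₀) := by
    rw [QCohLib.isQCoh_iff_localizingAt]
    intro V hV g
    refine ⟨fun s => ?_, fun t ht => ?_⟩
    · obtain ⟨n, t, ht⟩ := (localizingAt_of_isQCoh hV P g).exists_extend ((kernel.ι π₀).app _ s)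
      have hk : BlowUp.KilledByPowerNear 𝓔 P ⟨X.basicOpen g, hV.basicOpen g⟩ ((kernel.ι π₀).app _ s) :=
        (h₀ ⟨_, hV.basicOpen g⟩ _).mp (congr_arg (fun θ : kernel π₀ ⟶ G₀ => θ.app _ s) (kernel.condition π₀))
      obtain ⟨k, hk⟩ := hk
      let r : Γ(X, V) →+* Γ(X, X.basicOpen g) := (X.presheaf.map (homOfLE (X.basicOpen_le g)).op).hom
      have hkill : ∀ a ∈ 𝓔.ideal ⟨V, hV⟩ ^ k, ∃ l : ℕ, g ^ l • (a • t) = 0 := fun a ha => by
        obtain ⟨l, hl⟩ := (localizingAt_of_isQCoh hV P g).eq_zero (a • t) (by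
          rw [QCohLib.map_smul', ht, smul_comm, hk _ (by
            rw [Scheme.IdealSheafData.ideal_pow, Pi.pow_apply,
              show 𝓔.ideal ⟨X.basicOpen g, hV.basicOpen g⟩ = (𝓔.ideal ⟨V, hV⟩).map r from
                (𝓔.map_ideal_basicOpen ⟨V, hV⟩ g).symm, ← Ideal.map_pow]
            exact Ideal.mem_map_of_mem r ha), smul_zero])
        exact ⟨l, by simpa using hl⟩
      obtain ⟨L, hL⟩ : ∃ L : ℕ, ∀ a ∈ 𝓔.ideal ⟨V, hV⟩ ^ k, g ^ L • (a • t) = 0 := by
        classical
        obtain ⟨S, hS⟩ := Ideal.FG.pow (n := k) (hE ⟨V, hV⟩)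
        choose l hl using fun a : S => hkill a.1 (hS ▸ Ideal.subset_span a.2)
        refine ⟨Finset.univ.sup l, fun a ha => ?_⟩
        rw [← hS] at ha
        induction ha using Submodule.span_induction with
        | mem x hx =>
          have hle : l ⟨x, hx⟩ ≤ Finset.univ.sup l := Finset.le_sup (f := l) (Finset.mem_univ _)
          rw [← Nat.sub_add_cancel hle, pow_add, mul_smul, hl ⟨x, hx⟩, smul_zero]
        | zero => rw [zero_smul, smul_zero]
        | add x y _ _ hx hy => rw [add_smul, smul_add, hx, hy, add_zero]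
        | smul c x _ hx => rw [smul_eq_mul, mul_smul, smul_comm, hx, smul_zero]
      let S' : ShortComplex X.Modules := ShortComplex.mk (kernel.ι π₀) π₀ (kernel.condition π₀)
      obtain ⟨u, hu⟩ := exists_of_app_eq_zero (S := S')
        (ShortComplex.exact_of_f_is_kernel _ (kernelIsKernel π₀)) (inferInstanceAs (Mono (kernel.ι π₀)))
        (U := V) (g ^ L • t) ((h₀ ⟨V, hV⟩ _).mpr ⟨k, fun a ha => by
          rw [Scheme.IdealSheafData.ideal_pow, Pi.pow_apply] at ha
          rw [smul_comm]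
          exact hL a ha⟩)
      refine ⟨L + n, u, app_injective_of_mono (kernel.ι π₀) _ ?_⟩
      rw [app_map, hu, QCohLib.map_smul', ht, app_smul, map_pow, ← mul_smul, ← pow_add]
    · obtain ⟨N, hN⟩ := (localizingAt_of_isQCoh hV P g).eq_zero ((kernel.ι π₀).app _ t)
        (by rw [← app_map, ht, map_zero])
      exact ⟨N, app_injective_of_mono (kernel.ι π₀) _ (by rw [app_smul, hN, map_zero])⟩
  have : Coh.IsQCoh (cokernel (kernel.ι π₀)) := isQCoh_cokernel _
  exact @QCohLib.isQCoh_of_iso _ (cokernel (kernel.ι π₀)) G₀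
    ((cokernelIsCokernel (kernel.ι π₀)).coconePointUniqueUpToIso
      (Abelian.epiIsCokernelOfKernel (KernelFork.ofι (kernel.ι π₀) (kernel.condition π₀))
        (kernelIsKernel π₀))) this

/-- The base change map of an affine morphism is an isomorphism. -/
theorem isIso_bc {X' S S' : Scheme.{u}} {g : S' ⟶ S} {g' : X' ⟶ X} {f : X ⟶ S} {f' : X' ⟶ S'}
    (H : IsPullback g' f' f g) [IsAffineHom f] (M : X.Modules) [Coh.IsQCoh M] :
    IsIso (((Scheme.Modules.pullbackPushforwardAdjunction g).homEquiv _ _).symm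
      (RpushLib.bcAdj H.w M)) :=
  have : Coh.IsQCoh ((Scheme.Modules.pushforward f).obj M) := isQCoh_pushforward f M
  RpushLib.isIso_bcMap_of H M fun _ _ hUS hUT hg => RpushLib.bijective_bc_affine H M hUS hUT hg

theorem exists_strict_push {X Y S S' : Scheme.{u}} (hX : X ⟶ S) (hY : Y ⟶ S) (g : X ⟶ Y) [IsAffineHom g]
    (h : g ≫ hY = hX) (𝓘 : S.IdealSheafData) (b : S' ⟶ S) (hb : BlowUp.IsEffCartierIdeal (𝓘.comap b))
    (F : X.Modules) [Coh.IsQCoh F] (gm : pullback hX b ⟶ pullback hY b)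
    (h₁ : gm ≫ pullback.fst hY b = pullback.fst hX b ≫ g) (h₂ : gm ≫ pullback.snd hY b = pullback.snd hX b)
    (F' : (pullback hX b).Modules) (π : (Scheme.Modules.pullback (pullback.fst hX b)).obj F ⟶ F')
    (hπ : BlowUp.IsStrictTransform (pullback.fst hX b) (𝓘.comap hX) F F' π) :
    ∃ π' : (Scheme.Modules.pullback (pullback.fst hY b)).obj ((Scheme.Modules.pushforward g).obj F) ⟶
        (Scheme.Modules.pushforward gm).obj F',
      BlowUp.IsStrictTransform (pullback.fst hY b) (𝓘.comap hY) ((Scheme.Modules.pushforward g).obj F)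
        ((Scheme.Modules.pushforward gm).obj F') π' := by
  subst h
  have H : IsPullback (pullback.fst (g ≫ hY) b) gm g (pullback.fst hY b) := by
    refine IsPullback.of_bot ?_ h₁.symm (IsPullback.of_hasPullback hY b)
    rw [h₂]
    exact IsPullback.of_hasPullback (g ≫ hY) b
  haveI : IsAffineHom gm := MorphismProperty.of_isPullback H ‹IsAffineHom g›
  let P := (Scheme.Modules.pullback (pullback.fst (g ≫ hY) b)).obj F
  haveI : Coh.IsQCoh P := KFlatLib.isQCoh_pullback _ F
  let EY := BlowUp.exceptional (pullback.fst hY b) (𝓘.comap hY)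
  have hE : BlowUp.exceptional (pullback.fst (g ≫ hY) b) (𝓘.comap (g ≫ hY)) = EY.comap gm := by
    change (𝓘.comap (g ≫ hY)).comap _ = ((𝓘.comap hY).comap _).comap gm
    rw [← Scheme.IdealSheafData.comap_comp, ← Scheme.IdealSheafData.comap_comp,
      ← Scheme.IdealSheafData.comap_comp, ← Category.assoc, h₁]
  have hEX : BlowUp.IsFiniteTypeIdeal (BlowUp.exceptional (pullback.fst (g ≫ hY) b) (𝓘.comap (g ≫ hY))) := by
    change BlowUp.IsFiniteTypeIdeal ((𝓘.comap (g ≫ hY)).comap _)
    rw [← Scheme.IdealSheafData.comap_comp, pullback.condition, Scheme.IdealSheafData.comap_comp]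
    exact RGFlatLib.isFiniteTypeIdeal_comap (fun U => ModPairLib.fg_of_isEffCartier hb U) _
  haveI : Epi π := hπ.1
  haveI : Coh.IsQCoh F' := isQCoh_strict hEX P π hπ.2
  let β := ((Scheme.Modules.pullbackPushforwardAdjunction (pullback.fst hY b)).homEquiv _ _).symm
    (RpushLib.bcAdj H.w F)
  haveI : IsIso β := isIso_bc H F
  haveI : Epi ((Scheme.Modules.pushforward gm).map π) :=
    QCohLib.epi_of_surjective_on_affines _ fun W s p hp => by
      obtain ⟨V, hV, hpV, hle⟩ := Opens.isBasis_iff_nbhd.mp (pullback hY b).isBasis_affineOpens hp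
      obtain ⟨t, ht⟩ := SerreGenLib.app_surjective_of_epi π (hV.preimage gm)
        (((Scheme.Modules.pushforward gm).obj F').presheaf.map (homOfLE hle).op s)
      exact ⟨V, hle, hpV, t, ht⟩
  refine ⟨β ≫ (Scheme.Modules.pushforward gm).map π, epi_comp _ _, fun V m => ?_⟩
  let W : (pullback (g ≫ hY) b).affineOpens := ⟨gm ⁻¹ᵁ V.1, V.2.preimage gm⟩
  let m' : Γ(P, W.1) := (show Γ((Scheme.Modules.pushforward gm).obj P, V.1) from β.app V.1 m)
  refine (hπ.2 W m').trans ?_
  rw [hE]
  have hinj : Function.Injective (β.app V.1) := app_injective_of_mono β V.1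
  have hid : ∀ n : ℕ, ((EY.comap gm) ^ n).ideal W = ((EY ^ n).ideal V).map (gm.app V.1).hom := fun n => by
    rw [Scheme.IdealSheafData.ideal_pow, Pi.pow_apply, Scheme.IdealSheafData.ideal_pow, Pi.pow_apply,
      Ideal.map_pow, CohAmpLib.ideal_comap_of_affine (f := gm) EY V (V.2.preimage gm)]
  constructor
  · rintro ⟨n, hn⟩
    refine ⟨n, fun a ha => hinj ?_⟩
    refine (QCohLib.app_smul β V.1 a m).trans (Eq.trans ?_ (map_zero (β.app V.1).hom).symm)
    exact (QCohLib.push_smul gm P a (β.app V.1 m)).trans (hn _ (hid n ▸ Ideal.mem_map_of_mem _ ha))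
  · rintro ⟨n, hn⟩
    refine ⟨n, fun a ha => ?_⟩
    rw [hid n] at ha
    induction ha using Submodule.span_induction with
    | mem x hx =>
      obtain ⟨a, ha, rfl⟩ := hx
      refine (QCohLib.push_smul gm P a (β.app V.1 m)).symm.trans ?_
      refine (QCohLib.app_smul β V.1 a m).symm.trans ?_
      exact (congr_arg (β.app V.1) (hn a ha)).trans (map_zero (β.app V.1).hom)
    | zero => exact zero_smul _ m'
    | add x y _ _ hx hy => rw [add_smul, hx, hy, add_zero]
    | smul c x _ hx => rw [smul_eq_mul, mul_smul, hx, smul_zero]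

end StrictPushLib
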